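import Groth.Agent.AVFac.Points
import Groth.Agent.H23.MulEtale
import Groth.Agent.Lib.AVMulN
import Groth.Agent.H23.CubeAb
import Groth.Prelude.Def_AbDual

/-!
Divisibility of the rational points of an abelian variety over an algebraically closed field, sequences
through a torsion point, and homomorphisms killing torsion points factor through multiplication.
-/

set_option linter.style.haveILetI false
set_option backward.isDefEq.respectTransparency false
set_option backward.isDefEq.respectTransparency.types false

universe u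

open CategoryTheory CategoryTheory.Limits MonoidalCategory CartesianMonoidalCategory MonObj AlgebraicGeometry

namespace Groth.Agent.AVFac

variable {k : Type u} [Field k]

theorem eta_eq_one (G : Over (Spec (CommRingCat.of k))) [GrpObj G] :
    η[G] = (1 : 𝟙_ (Over (Spec (CommRingCat.of k))) ⟶ G) := by
  rw [Hom.one_def, toUnit_unique (toUnit (𝟙_ _)) (𝟙 _), Category.id_comp]

theorem smooth_av (A : Over (Spec (CommRingCat.of k))) [GrpObj A] [IsProper A.hom] [GeometricallyIntegral A.hom] :
    Smooth A.hom := by
  haveI : LocallyOfFinitePresentation A.hom := inferInstance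
  haveI := H23.CubeAb.geometricallyConnected_of_integral A.hom
  haveI : Flat A.hom := inferInstance
  exact H23.MulEtale.smooth (X := A)

theorem isUnit_natCast {n : ℕ} (hn : (n : k) ≠ 0) : IsUnit ((n : ℕ) : Γ(Spec (CommRingCat.of k), ⊤)) := by
  have := (isUnit_iff_ne_zero.2 hn).map (Scheme.ΓSpecIso (CommRingCat.of k)).inv.hom
  rwa [map_natCast] at this

theorem etale_pow_of_ne_zero (A : Over (Spec (CommRingCat.of k))) [GrpObj A] [IsProper A.hom]
    [GeometricallyIntegral A.hom] {n : ℕ} (hn : (n : k) ≠ 0) : Etale (𝟙 A ^ n : A ⟶ A).left := by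
  haveI : LocallyOfFinitePresentation A.hom := inferInstance
  haveI := H23.CubeAb.geometricallyConnected_of_integral A.hom
  exact H23.MulEtale.etale_pow (X := A) n (isUnit_natCast hn)

/-- A point lying under a surjective map comes from a point. -/
theorem exists_pt_comp [IsAlgClosed k] {X Y : Over (Spec (CommRingCat.of k))} [LocallyOfFiniteType X.hom]
    [LocallyOfFiniteType Y.hom] (f : X ⟶ Y) [Surjective f.left]
    (y : 𝟙_ (Over (Spec (CommRingCat.of k))) ⟶ Y) :
    ∃ x : 𝟙_ (Over (Spec (CommRingCat.of k))) ⟶ X, x ≫ f = y := by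
  let P : Scheme.{u} := pullback f.left y.left
  let q : P ⟶ Spec (CommRingCat.of k) := pullback.snd f.left y.left
  haveI : LocallyOfFiniteType f.left := by
    haveI : LocallyOfFiniteType (f.left ≫ Y.hom) := by rw [Over.w]; infer_instance
    exact locallyOfFiniteType_of_comp f.left Y.hom
  haveI : LocallyOfFiniteType q := inferInstanceAs (LocallyOfFiniteType (pullback.snd f.left y.left))
  haveI : Surjective q := inferInstanceAs (Surjective (pullback.snd f.left y.left))
  haveI : Nonempty P := ⟨(q.surjective (IsLocalRing.closedPoint k)).choose⟩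
  haveI : JacobsonSpace P := LocallyOfFiniteType.jacobsonSpace q
  obtain ⟨z, -, hz⟩ := nonempty_inter_closedPoints (Z := (Set.univ : Set P)) Set.univ_nonempty
    isClosed_univ.isLocallyClosed
  let s := pointOfClosedPoint q z hz
  have hs : s ≫ pullback.snd f.left y.left = 𝟙 _ := pointOfClosedPoint_comp q z hz
  have hy : y.left ≫ Y.hom = 𝟙 _ := Over.w y
  refine ⟨Over.homMk (s ≫ pullback.fst f.left y.left) ?_, Over.OverMorphism.ext ?_⟩
  · show (s ≫ pullback.fst f.left y.left) ≫ X.hom = 𝟙 _
    rw [← Over.w f, Category.assoc, pullback.condition_assoc, hy, Category.comp_id, hs]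
  · show (s ≫ pullback.fst f.left y.left) ≫ f.left = y.left
    rw [Category.assoc, pullback.condition, ← Category.assoc, hs, Category.id_comp]

/-- Rational points of an abelian variety are divisible. -/
theorem exists_pow_eq [IsAlgClosed k] {A : Over (Spec (CommRingCat.of k))} [GrpObj A] [IsProper A.hom]
    [GeometricallyIntegral A.hom] {n : ℕ} (hn : 1 ≤ n) (a : 𝟙_ (Over (Spec (CommRingCat.of k))) ⟶ A) :
    ∃ b : 𝟙_ (Over (Spec (CommRingCat.of k))) ⟶ A, b ^ n = a := by
  haveI := AVMulN.surjective_pow (A := A) n hn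
  obtain ⟨b, hb⟩ := exists_pt_comp (𝟙 A ^ n) a
  exact ⟨b, by rwa [MonObj.comp_pow, Category.comp_id] at hb⟩

/-- The projections of the Tate module onto torsion points are surjective. -/
theorem exists_component_eq [IsAlgClosed k] {A : Over (Spec (CommRingCat.of k))} [GrpObj A] [IsCommMonObj A]
    [IsProper A.hom] [GeometricallyIntegral A.hom] {l : ℕ} (hl : 1 ≤ l) (n : ℕ)
    (a : 𝟙_ (Over (Spec (CommRingCat.of k))) ⟶ A) (ha : a ^ l ^ n = 1) :
    ∃ x : AbDual.TateMod A l (𝟙_ (Over (Spec (CommRingCat.of k)))),
      (x : ℕ → Additive (𝟙_ (Over (Spec (CommRingCat.of k))) ⟶ A)) n = Additive.ofMul a := by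
  classical
  choose r hr using fun b : 𝟙_ (Over (Spec (CommRingCat.of k))) ⟶ A => exists_pow_eq hl b
  have hiter : ∀ (j : ℕ) (b : 𝟙_ (Over (Spec (CommRingCat.of k))) ⟶ A), (r^[j] b) ^ l ^ j = b := by
    intro j
    induction j with
    | zero => simp
    | succ j ih =>
      intro b
      rw [Function.iterate_succ_apply', pow_succ', pow_mul, hr, ih]
  let z : ℕ → (𝟙_ (Over (Spec (CommRingCat.of k))) ⟶ A) := fun m => (r^[m - n] a) ^ l ^ (n - m)
  have hzl : ∀ m, z (m + 1) ^ l = z m := by
    intro m
    by_cases hm : n ≤ m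
    · simp only [z, Nat.sub_eq_zero_of_le hm, Nat.sub_eq_zero_of_le (hm.trans m.le_succ), pow_zero, pow_one]
      rw [Nat.succ_sub hm, Function.iterate_succ_apply', hr]
    · simp only [z, Nat.sub_eq_zero_of_le (by omega : m ≤ n), Nat.sub_eq_zero_of_le (by omega : m + 1 ≤ n),
        Function.iterate_zero, id_eq]
      rw [← pow_mul, ← pow_succ, show n - (m + 1) + 1 = n - m by omega]
  refine ⟨⟨fun m => Additive.ofMul (z m), fun m => ?_, fun m => ?_⟩, ?_⟩
  · show Additive.ofMul (z m ^ l ^ m) = Additive.ofMul 1
    refine congrArg Additive.ofMul ?_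
    by_cases hm : n ≤ m
    · simp only [z, Nat.sub_eq_zero_of_le hm, pow_zero, pow_one]
      conv_lhs => rw [show l ^ m = l ^ (m - n) * l ^ n by rw [← pow_add, Nat.sub_add_cancel hm], pow_mul, hiter]
      exact ha
    · simp only [z, Nat.sub_eq_zero_of_le (by omega : m ≤ n), Function.iterate_zero, id_eq]
      rw [← pow_mul, ← pow_add, Nat.sub_add_cancel (by omega : m ≤ n)]
      exact ha
  · exact congrArg Additive.ofMul (hzl m)
  · show Additive.ofMul (z n) = _
    simp [z]

end Groth.Agent.AVFac
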