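import Groth.Agent.AVFac.Card
import Groth.Agent.AVTors.Torsion

/-!
The Tate module of an abelian variety over an algebraically closed field is free of rank twice the dimension.
-/

set_option linter.style.haveILetI false
set_option backward.isDefEq.respectTransparency false
set_option backward.isDefEq.respectTransparency.types false

universe u

open CategoryTheory MonoidalCategory CartesianMonoidalCategory MonObj AlgebraicGeometry

namespace Groth.Agent.AVFac

theorem tateMod_free {k : Type u} [Field k] [IsAlgClosed k] {l : ℕ} [hl : Fact l.Prime] (hlk : (l : k) ≠ 0)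
    {A : Over (Spec (CommRingCat.of k))} [GrpObj A] [IsCommMonObj A] [IsProper A.hom] [GeometricallyIntegral A.hom]
    {g : ℕ} (hg : topologicalKrullDim A.left = g) :
    Nonempty ((Fin (2 * g) → ℤ_[l]) ≃ₗ[ℤ_[l]] AbDual.TateMod A l (𝟙_ (Over (Spec (CommRingCat.of k))))) := by
  classical
  let P := Additive (𝟙_ (Over (Spec (CommRingCat.of k))) ⟶ A)
  let T := AbDual.TateMod A l (𝟙_ (Over (Spec (CommRingCat.of k))))
  have hl1 : 1 ≤ l := hl.out.pos
  obtain ⟨e⟩ := AVTors.nonempty_torsPts (A := A) hg (n := l) hlk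
  let y : Fin (2 * g) → P := fun i => Additive.ofMul (e.symm (Multiplicative.ofAdd (Pi.single i 1))).1
  have hy : ∀ i, l ^ 1 • y i = 0 := fun i => by
    rw [pow_one]
    exact congrArg Additive.ofMul (e.symm (Multiplicative.ofAdd (Pi.single i 1))).2
  choose x hx using fun i => exists_component_eq (A := A) hl1 1 ((y i).toMul) (by
    exact congrArg Additive.toMul (hy i))
  -- combinations of the components
  let comb : ℕ → (Fin (2 * g) → ℕ) → P := fun n c => ∑ i, c i • (x i : ℕ → P) n
  have hgen1 : ∀ a : P, l • a = 0 → ∃ c, comb 1 c = a := by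
    intro a ha
    let v := Multiplicative.toAdd (e ⟨a.toMul, congrArg Additive.toMul ha⟩)
    refine ⟨fun i => (v i).val, ?_⟩
    let f : (Fin (2 * g) → ZMod l) →+ P :=
      { toFun := fun w => Additive.ofMul (e.symm (Multiplicative.ofAdd w)).1
        map_zero' := by simp
        map_add' := fun w w' => by simp }
    have h1 : f v = a := by
      show Additive.ofMul (e.symm (Multiplicative.ofAdd (Multiplicative.toAdd
        (e ⟨a.toMul, congrArg Additive.toMul ha⟩)))).1 = a
      rw [ofAdd_toAdd, MulEquiv.symm_apply_apply]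
      rfl
    have h2 : ∑ i, (v i).val • (Pi.single i 1 : Fin (2 * g) → ZMod l) = v := by
      funext j
      rw [Finset.sum_apply, Finset.sum_eq_single j]
      · rw [Pi.smul_apply, Pi.single_eq_same, nsmul_eq_mul, _root_.mul_one, ZMod.natCast_zmod_val]
      · intro i _ hi
        rw [Pi.smul_apply, Pi.single_eq_of_ne (Ne.symm hi), smul_zero]
      · exact fun h => absurd (Finset.mem_univ j) h
    refine Eq.trans ?_ h1
    conv_rhs => rw [← h2, map_sum]
    refine Finset.sum_congr rfl fun i _ => ?_
    rw [map_nsmul, hx i]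
    rfl
  have hdown : ∀ (n : ℕ) (c : Fin (2 * g) → ℕ) (j : ℕ), l ^ j • comb (n + j) c = comb n c := by
    intro n c j
    induction j with
    | zero => simp
    | succ j ih =>
      rw [pow_succ, mul_smul, ← ih]
      congr 1
      simp only [comb, Finset.smul_sum]
      refine Finset.sum_congr rfl fun i _ => ?_
      rw [smul_comm]
      exact congrArg (c i • ·) ((x i).2.2 (n + j))
  have htors : ∀ (n : ℕ) (c : Fin (2 * g) → ℕ), l ^ n • comb n c = 0 := by
    intro n c
    simp only [comb, Finset.smul_sum]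
    refine Finset.sum_eq_zero fun i _ => ?_
    rw [smul_comm, (x i).2.1 n, smul_zero]
  have hgen : ∀ (n : ℕ) (a : P), l ^ n • a = 0 → ∃ c, comb n c = a := by
    intro n
    induction n with
    | zero =>
      intro a ha
      refine ⟨0, ?_⟩
      rw [pow_zero, one_smul] at ha
      simp [comb, ha]
    | succ n ih =>
      intro a ha
      obtain ⟨c, hc⟩ := hgen1 (l ^ n • a) (by rw [← mul_smul, ← pow_succ', ha])
      obtain ⟨c', hc'⟩ := ih (a - comb (n + 1) c) (by
        rw [smul_sub, ← hc, show n + 1 = 1 + n by omega, hdown 1 c n, sub_self])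
      refine ⟨fun i => c i + l * c' i, ?_⟩
      have h3 : comb (n + 1) (fun i => c i + l * c' i) = comb (n + 1) c + l • comb (n + 1) c' := by
        simp only [comb, add_smul, mul_smul, Finset.sum_add_distrib, Finset.smul_sum]
      have h4 := hdown n c' 1
      rw [pow_one] at h4
      rw [h3, h4, hc', add_sub_cancel]
  -- reduction modulo `l ^ n`
  have hmod : ∀ (n : ℕ) (c c' : Fin (2 * g) → ℕ), (∀ i, c i ≡ c' i [MOD l ^ n]) → comb n c = comb n c' := by
    intro n c c' h
    exact Finset.sum_congr rfl fun i _ => AbDual.nsmul_congr_of_modEq ((x i).2.1 n) (h i)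
  let φ : ∀ n, (Fin (2 * g) → Fin (l ^ n)) → {a : P // l ^ n • a = 0} :=
    fun n c => ⟨comb n fun i => (c i).1, htors n _⟩
  have hbij : ∀ n, Function.Bijective (φ n) := by
    intro n
    have hpos : 0 < l ^ n := pow_pos hl.out.pos n
    have hc : Nat.card {a : P // l ^ n • a = 0} = (l ^ n) ^ (2 * g) := by
      rw [← card_torsion (A := A) hg (N := l ^ n) (by push_cast; exact pow_ne_zero _ hlk)]
      exact Nat.card_congr
        { toFun := fun a => ⟨a.1.toMul, congrArg Additive.toMul a.2⟩
          invFun := fun a => ⟨Additive.ofMul a.1, congrArg Additive.ofMul a.2⟩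
          left_inv := fun a => rfl
          right_inv := fun a => rfl }
    haveI : Finite {a : P // l ^ n • a = 0} := Nat.finite_of_card_ne_zero (by rw [hc]; positivity)
    have hsurj : Function.Surjective (φ n) := fun a => by
      obtain ⟨c, hc⟩ := hgen n a.1 a.2
      exact ⟨fun i => ⟨c i % l ^ n, Nat.mod_lt _ hpos⟩,
        Subtype.ext ((hmod n _ c fun i => Nat.mod_modEq _ _).trans hc)⟩
    exact hsurj.bijective_of_nat_card_le (le_of_eq (by simp [hc]))
  have hinj : ∀ n (c c' : Fin (2 * g) → ℕ), comb n c = comb n c' → ∀ i, c i ≡ c' i [MOD l ^ n] := by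
    intro n c c' h i
    have hpos : 0 < l ^ n := pow_pos hl.out.pos n
    have := (hbij n).1 (a₁ := fun i => ⟨c i % l ^ n, Nat.mod_lt _ hpos⟩)
      (a₂ := fun i => ⟨c' i % l ^ n, Nat.mod_lt _ hpos⟩) (Subtype.ext (((hmod n _ c fun i => Nat.mod_modEq _ _).trans h).trans
        (hmod n _ c' fun i => Nat.mod_modEq _ _).symm))
    exact congrArg Fin.val (congrFun this i)
  -- the linear map
  let Φ : (Fin (2 * g) → ℤ_[l]) →ₗ[ℤ_[l]] T := Fintype.linearCombination ℤ_[l] x
  have hΦ : ∀ (c : Fin (2 * g) → ℤ_[l]) (n : ℕ),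
      (Φ c : ℕ → P) n = comb n fun i => (c i).appr n := by
    intro c n
    show AbDual.TateMod.component A l _ n (Φ c) = _
    simp only [Φ, Fintype.linearCombination_apply, map_sum]
    rfl
  refine ⟨LinearEquiv.ofBijective Φ ⟨?_, ?_⟩⟩
  · intro c c' h
    funext i
    refine PadicInt.ext_of_toZModPow.1 fun n => ?_
    rw [AbDual.toZModPow_eq_appr, AbDual.toZModPow_eq_appr, ZMod.natCast_eq_natCast_iff]
    exact hinj n _ _ ((hΦ c n).symm.trans ((congrArg (fun t : T => (t : ℕ → P) n) h).trans (hΦ c' n))) i
  · intro t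
    choose s hs using fun n => hgen n ((t : ℕ → P) n) (t.2.1 n)
    have hcomp : ∀ i n, s (n + 1) i ≡ s n i [MOD l ^ n] := fun i n => by
      refine hinj n _ _ ?_ i
      have h := hdown n (s (n + 1)) 1
      rw [pow_one] at h
      rw [← h, hs, hs]
      exact t.2.2 n
    have hprec : ∀ i, ∃ L : ℤ_[l], ∀ n, L - (s n i : ℤ_[l]) ∈ Ideal.span {(l : ℤ_[l]) ^ n} := by
      intro i
      obtain ⟨L, hL⟩ := IsPrecomplete.prec (I := IsLocalRing.maximalIdeal ℤ_[l]) (M := ℤ_[l]) inferInstance
        (f := fun n => (s n i : ℤ_[l])) (fun {m n} hmn => by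
          rw [SModEq.sub_mem, smul_eq_mul, Ideal.mul_top, PadicInt.maximalIdeal_eq_span_p, Ideal.span_singleton_pow,
            ← PadicInt.ker_toZModPow, RingHom.mem_ker, map_sub, map_natCast, map_natCast, sub_eq_zero,
            ZMod.natCast_eq_natCast_iff]
          induction n, hmn using Nat.le_induction with
          | base => exact Nat.ModEq.refl _
          | succ n hn ih => exact ih.trans ((hcomp i n).of_dvd (pow_dvd_pow l hn)).symm)
      refine ⟨L, fun n => ?_⟩
      have := hL n
      rw [SModEq.sub_mem, smul_eq_mul, Ideal.mul_top, PadicInt.maximalIdeal_eq_span_p,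
        Ideal.span_singleton_pow] at this
      rw [← neg_sub]
      exact neg_mem this
    choose L hL using hprec
    refine ⟨L, AbDual.TateMod.ext fun n => ?_⟩
    rw [hΦ, ← hs n]
    refine hmod n _ _ fun i => ?_
    rw [← ZMod.natCast_eq_natCast_iff, ← AbDual.toZModPow_eq_appr, ← sub_eq_zero, ← map_natCast (PadicInt.toZModPow (p := l) n),
      ← map_sub, ← RingHom.mem_ker, PadicInt.ker_toZModPow]
    exact hL i n

end Groth.Agent.AVFac
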