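import Groth.Agent.AVFac.Points
import Groth.Agent.H23.EquidimFibres
import Groth.Agent.H23.MaxAbelian

/-!
Closed subgroups of an abelian variety over an algebraically closed field: an abelian subvariety has finite
index on rational points.
-/

set_option linter.style.haveILetI false
set_option backward.isDefEq.respectTransparency false
set_option backward.isDefEq.respectTransparency.types false

universe u

open CategoryTheory CategoryTheory.Limits MonoidalCategory CartesianMonoidalCategory MonObj AlgebraicGeometry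
open TopologicalSpace

namespace Groth.Agent.AVFac

variable {k : Type u} [Field k] [IsAlgClosed k] {A : Over (Spec (CommRingCat.of k))} [GrpObj A] [IsProper A.hom]

/-- The point of a rational point. -/
noncomputable def ptOf {X : Over (Spec (CommRingCat.of k))} (a : 𝟙_ (Over (Spec (CommRingCat.of k))) ⟶ X) :
    X.left := a.left (IsLocalRing.closedPoint k)

omit [IsAlgClosed k] in
theorem ptOf_comp {X Y : Over (Spec (CommRingCat.of k))} (a : 𝟙_ (Over (Spec (CommRingCat.of k))) ⟶ X)
    (f : X ⟶ Y) : ptOf (a ≫ f) = f.left (ptOf a) := rfl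

omit [IsAlgClosed k] in
theorem range_pt {X : Over (Spec (CommRingCat.of k))} (a : 𝟙_ (Over (Spec (CommRingCat.of k))) ⟶ X) :
    Set.range a.left = {ptOf a} := by
  refine Set.Subset.antisymm ?_ (Set.singleton_subset_iff.2 ⟨_, rfl⟩)
  rintro _ ⟨y, rfl⟩
  exact congrArg a.left (@Subsingleton.elim (Spec (CommRingCat.of k)) inferInstance _ _)

omit [IsAlgClosed k] in
/-- A point whose image lies in a closed subscheme comes from it. -/
theorem exists_pt_lift {B X : Over (Spec (CommRingCat.of k))} (j : B ⟶ X) [IsClosedImmersion j.left]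
    (a : 𝟙_ (Over (Spec (CommRingCat.of k))) ⟶ X) (ha : ptOf a ∈ Set.range j.left) :
    ∃ b : 𝟙_ (Over (Spec (CommRingCat.of k))) ⟶ B, b ≫ j = a := by
  haveI : IsReduced (𝟙_ (Over (Spec (CommRingCat.of k)))).left :=
    inferInstanceAs (IsReduced (Spec (CommRingCat.of k)))
  obtain ⟨b, hb⟩ := H23.RedSub.exists_lift_closed a.left j.left (by rw [range_pt]; simpa using ha)
  exact ⟨Over.homMk b (by rw [← Over.w j, ← Category.assoc, hb, Over.w]), Over.OverMorphism.ext hb⟩

omit [GrpObj A] in
/-- A closed set containing all rational points of the source pulls back to everything. -/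
theorem range_subset_of_pts {X : Over (Spec (CommRingCat.of k))} [LocallyOfFiniteType X.hom] (g : X ⟶ A)
    {S : Set A.left} (hS : IsClosed S)
    (h : ∀ x : 𝟙_ (Over (Spec (CommRingCat.of k))) ⟶ X, ptOf (x ≫ g) ∈ S) : Set.range g.left ⊆ S := by
  haveI : JacobsonSpace X.left := LocallyOfFiniteType.jacobsonSpace X.hom
  have : closedPoints X.left ⊆ g.left ⁻¹' S := fun z hz => by
    have := h (ptAt z hz)
    rwa [ptOf_comp, ptOf, ptAt_apply] at this
  have h2 := closure_mono this
  rw [show closure (closedPoints X.left) = Set.univ from closure_closedPoints,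
    (hS.preimage g.left.continuous).closure_eq] at h2
  rintro _ ⟨z, rfl⟩
  exact h2 trivial

/-- A closed subset whose rational points form a subgroup. -/
structure IsSubgroupSet (S : Set A.left) : Prop where
  closed : IsClosed S
  one : ptOf (η[A]) ∈ S
  mul : ∀ a b : 𝟙_ (Over (Spec (CommRingCat.of k))) ⟶ A, ptOf a ∈ S → ptOf b ∈ S → ptOf (a * b) ∈ S
  inv : ∀ a : 𝟙_ (Over (Spec (CommRingCat.of k))) ⟶ A, ptOf a ∈ S → ptOf a⁻¹ ∈ S

variable [GeometricallyIntegral A.hom]

/-- An abelian subvariety of finite index on rational points inside a closed subgroup. -/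
theorem exists_abelian_finite_index {S : Set A.left} (hS : IsSubgroupSet S) :
    ∃ (B : Over (Spec (CommRingCat.of k))) (_ : GrpObj B) (j : B ⟶ A), IsMonHom j ∧ IsClosedImmersion j.left ∧
      IsProper B.hom ∧ GeometricallyIntegral B.hom ∧ Set.range j.left ⊆ S ∧
      ∃ F : Finset (𝟙_ (Over (Spec (CommRingCat.of k))) ⟶ A), ∀ a, ptOf a ∈ S →
        ∃ f ∈ F, ∃ b : 𝟙_ (Over (Spec (CommRingCat.of k))) ⟶ B, a = f * (b ≫ j) := by
  classical
  haveI : IsLocallyNoetherian A.left := LocallyOfFiniteType.isLocallyNoetherian A.hom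
  haveI : CompactSpace A.left := QuasiCompact.compactSpace_of_compactSpace A.hom
  haveI : IsNoetherian A.left := { }
  haveI : JacobsonSpace A.left := LocallyOfFiniteType.jacobsonSpace A.hom
  have hone : ∀ a : 𝟙_ (Over (Spec (CommRingCat.of k))) ⟶ A, η[A] * a = a := fun a => by
    rw [show η[A] = (1 : 𝟙_ (Over (Spec (CommRingCat.of k))) ⟶ A) by
      rw [Hom.one_def, toUnit_unique (toUnit (𝟙_ _)) (𝟙 _), Category.id_comp], _root_.one_mul]
  let P : Set A.left → Prop := fun Z => IsIrreducible Z ∧ IsClosed Z ∧ ptOf η[A] ∈ Z ∧ Z ⊆ S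
  have hclη : IsClosed ({ptOf η[A]} : Set A.left) := by
    haveI : IsClosedImmersion η[A].left := by
      haveI : IsSeparated A.hom := inferInstance
      exact isClosedImmersion_of_comp_eq_id A.hom _ (Over.w η[A])
    have := η[A].left.isClosedEmbedding.isClosed_range
    rwa [range_pt] at this
  obtain ⟨C, hC, hmax⟩ := H23.MaxAbelian.exists_maximal (ptOf η[A]) P (fun Z h => ⟨h.1, h.2.1, h.2.2.1⟩)
    ⟨{ptOf η[A]}, isIrreducible_singleton, hclη, rfl, Set.singleton_subset_iff.2 hS.one⟩
  obtain ⟨V, em, hci, hr, hVp, hVg, hVi⟩ := H23.EquidimFibres.exists_integral_sub hC.2.1 hC.1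
  -- multiplying `C` with another irreducible set through the unit stays in `C`
  have hprod : ∀ (W : Over (Spec (CommRingCat.of k))) [IsProper W.hom] [GeometricallyIntegral W.hom]
      (g : W ⟶ A), Set.range g.left ⊆ S → ptOf η[A] ∈ Set.range g.left →
      Set.range ((fst V W ≫ em) * (snd V W ≫ g)).left ⊆ C := by
    intro W _ _ g hg hg1
    haveI := H23.MaxAbelian.geometricallyIntegral_tensor V W
    haveI : IsIntegral (V ⊗ W).left := H23.MaxAbelian.isIntegral_of_geometricallyIntegral
    haveI : IsProper (V ⊗ W).hom := by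
      show IsProper (pullback.fst V.hom W.hom ≫ V.hom)
      infer_instance
    let ψ := (fst V W ≫ em) * (snd V W ≫ g)
    have hψS : Set.range ψ.left ⊆ S := range_subset_of_pts ψ hS.closed fun x => by
      simp only [ψ, MonObj.comp_mul, ← Category.assoc]
      refine hS.mul _ _ ?_ ?_
      · rw [ptOf_comp]
        exact hC.2.2.2 (hr.subset ⟨_, rfl⟩)
      · rw [ptOf_comp]
        exact hg ⟨_, rfl⟩
    have hirr : IsIrreducible (Set.range ψ.left) := by
      rw [← Set.image_univ]
      exact (IrreducibleSpace.isIrreducible_univ _).image _ ψ.left.continuous.continuousOn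
    have hcl : IsClosed (Set.range ψ.left) := by
      haveI : IsProper (ψ.left ≫ A.hom) := by rw [Over.w]; infer_instance
      haveI : IsProper ψ.left := IsProper.of_comp ψ.left A.hom
      exact ψ.left.isClosedMap.isClosed_range
    obtain ⟨w, hw⟩ : ∃ w : 𝟙_ (Over (Spec (CommRingCat.of k))) ⟶ W, w ≫ g = η[A] := by
      haveI : IsSeparated A.hom := inferInstance
      haveI : IsProper (g.left ≫ A.hom) := by rw [Over.w]; infer_instance
      haveI : IsProper g.left := IsProper.of_comp g.left A.hom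
      haveI : JacobsonSpace W.left := LocallyOfFiniteType.jacobsonSpace W.hom
      obtain ⟨x, hx⟩ := hg1
      have hne : (g.left ⁻¹' {ptOf η[A]}).Nonempty := ⟨x, hx⟩
      obtain ⟨z, hz, hzc⟩ := nonempty_inter_closedPoints hne (hclη.preimage g.left.continuous).isLocallyClosed
      refine ⟨ptAt z hzc, Over.OverMorphism.ext ?_⟩
      refine ext_of_apply_closedPoint_eq A.hom (Over.w _) (Over.w η[A]) ?_
      show ptOf (ptAt z hzc ≫ g) = _
      rw [ptOf_comp, ptOf, ptAt_apply]
      exact hz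
    have hCD : C ⊆ Set.range ψ.left := by
      rw [← hr]
      have e : lift (𝟙 V) (toUnit V ≫ w) ≫ ψ = em := by
        simp only [ψ, MonObj.comp_mul, lift_fst_assoc, lift_snd_assoc, Category.id_comp, Category.assoc, hw,
          MonObj.one_eq_one, MonObj.comp_one, _root_.mul_one]
      rw [← e, Over.comp_left]
      rintro _ ⟨v, rfl⟩
      exact ⟨_, rfl⟩
    exact (hmax _ ⟨hirr, hcl, hCD hC.2.2.1, hψS⟩ hCD) ▸ subset_rfl
  obtain ⟨v₀, hv₀⟩ := exists_pt_lift em η[A] (hr.symm.subset hC.2.2.1)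
  -- irreducible sets through the unit inside `S` lie in `C`
  have hsub : ∀ (W : Over (Spec (CommRingCat.of k))) [IsProper W.hom] [GeometricallyIntegral W.hom]
      (g : W ⟶ A), Set.range g.left ⊆ S → ptOf η[A] ∈ Set.range g.left → Set.range g.left ⊆ C := by
    intro W _ _ g hg hg1
    refine subset_trans ?_ (hprod W g hg hg1)
    have e : lift (toUnit W ≫ v₀) (𝟙 W) ≫ ((fst V W ≫ em) * (snd V W ≫ g)) = g := by
      simp only [MonObj.comp_mul, lift_fst_assoc, lift_snd_assoc, Category.id_comp, Category.assoc, hv₀,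
        MonObj.one_eq_one, MonObj.comp_one, _root_.one_mul]
    conv_lhs => rw [← e, Over.comp_left]
    rintro _ ⟨v, rfl⟩
    exact ⟨_, rfl⟩
  have hCS : Set.range em.left ⊆ S := hr.trans_subset hC.2.2.2
  have hC1 : ptOf η[A] ∈ Set.range em.left := hr.symm.subset hC.2.2.1
  have hinvS : Set.range (em⁻¹).left ⊆ S := range_subset_of_pts em⁻¹ hS.closed fun x => by
    rw [GrpObj.comp_inv]
    exact hS.inv _ (by rw [ptOf_comp]; exact hCS ⟨_, rfl⟩)
  obtain ⟨B, hB, j, hjm, hjc, hBp, hBg, hjr⟩ := H23.MaxAbelian.exists_image' em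
    ((range_pt η[A]).trans_subset (Set.singleton_subset_iff.2 hC1))
    ((hprod V em hCS hC1).trans_eq hr.symm)
    ((hsub V em⁻¹ hinvS ⟨ptOf v₀, by
      show ptOf (v₀ ≫ em⁻¹) = _
      rw [GrpObj.comp_inv, hv₀, MonObj.one_eq_one, inv_one]⟩).trans_eq hr.symm)
  refine ⟨B, hB, j, hjm, hjc, hBp, hBg, hjr.trans_subset hCS, ?_⟩
  have hfin : (irreducibleComponents S).Finite := NoetherianSpace.finite_irreducibleComponents
  choose a w hwW haw using fun W : {W // W ∈ irreducibleComponents S} =>
    let ⟨a, w, h1, h2, _⟩ := H23.EquidimFibres.exists_point_only hS.closed W.2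
    (⟨a, w, h1, h2⟩ : ∃ a : 𝟙_ (Over (Spec (CommRingCat.of k))) ⟶ A, ∃ w ∈ W.1, ptOf a = w.1)
  haveI : Finite {W // W ∈ irreducibleComponents S} := hfin.to_subtype
  haveI : Fintype {W // W ∈ irreducibleComponents S} := Fintype.ofFinite _
  refine ⟨Finset.univ.image a, fun x hx => ?_⟩
  obtain ⟨W, hW, hxW⟩ : ∃ W ∈ irreducibleComponents S, (⟨ptOf x, hx⟩ : S) ∈ W :=
    ⟨_, irreducibleComponent_mem_irreducibleComponents _, mem_irreducibleComponent⟩
  let c := a ⟨W, hW⟩
  have hW'c : IsClosed (Subtype.val '' W : Set A.left) :=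
    hS.closed.isClosedEmbedding_subtypeVal.isClosedMap _ (isClosed_of_mem_irreducibleComponents W hW)
  obtain ⟨U, eU, hUc, hUr, hUp, hUg, hUi⟩ := H23.EquidimFibres.exists_integral_sub hW'c
    (hW.1.image _ continuous_subtype_val.continuousOn)
  have hcW : ptOf c ∈ Subtype.val '' W := ⟨_, hwW ⟨W, hW⟩, (haw ⟨W, hW⟩).symm⟩
  have hcS : ptOf c ∈ S := by
    obtain ⟨s, -, e⟩ := hcW
    exact e ▸ s.2
  let g : U ⟶ A := (toUnit U ≫ c⁻¹) * eU
  have hgS : Set.range g.left ⊆ S := range_subset_of_pts g hS.closed fun y => by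
    simp only [g, MonObj.comp_mul]
    rw [← Category.assoc y, toUnit_unique (y ≫ toUnit U) (𝟙 _), Category.id_comp]
    refine hS.mul _ _ (hS.inv _ hcS) ?_
    rw [ptOf_comp]
    obtain ⟨s, -, e⟩ := hUr.subset ⟨ptOf y, rfl⟩
    exact e ▸ s.2
  have hgy : ∀ y : 𝟙_ (Over (Spec (CommRingCat.of k))) ⟶ U, y ≫ g = c⁻¹ * (y ≫ eU) := fun y => by
    simp only [g, MonObj.comp_mul]
    rw [← Category.assoc y, toUnit_unique (y ≫ toUnit U) (𝟙 _), Category.id_comp]
  obtain ⟨uc, huc⟩ := exists_pt_lift eU c (hUr.symm.subset hcW)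
  obtain ⟨ux, hux⟩ := exists_pt_lift eU x (hUr.symm.subset ⟨_, hxW, rfl⟩)
  have hgC := hsub U g hgS ⟨ptOf uc, by
    show ptOf (uc ≫ g) = _
    rw [hgy, huc, inv_mul_cancel, MonObj.one_eq_one]⟩
  obtain ⟨b, hb⟩ := exists_pt_lift j (c⁻¹ * x) (by
    rw [hjr, hr]
    refine hgC ⟨ptOf ux, ?_⟩
    show ptOf (ux ≫ g) = _
    rw [hgy, hux])
  exact ⟨c, Finset.mem_image.2 ⟨_, Finset.mem_univ _, rfl⟩, b, by rw [hb, mul_inv_cancel_left]⟩

end Groth.Agent.AVFac
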