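import Groth.Agent.AVFac.Degree
import Groth.Agent.AVFac.Tate
import Groth.Agent.AVDegLib.MulN

/-!
The number of rational torsion points of an abelian variety over an algebraically closed field.
-/

set_option linter.style.haveILetI false
set_option backward.isDefEq.respectTransparency false
set_option backward.isDefEq.respectTransparency.types false

universe u

open CategoryTheory MonoidalCategory CartesianMonoidalCategory MonObj AlgebraicGeometry

namespace Groth.Agent.AVFac

theorem card_torsion {k : Type u} [Field k] [IsAlgClosed k] {A : Over (Spec (CommRingCat.of k))} [GrpObj A]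
    [IsProper A.hom] [GeometricallyIntegral A.hom] {g : ℕ} (hg : topologicalKrullDim A.left = g) {N : ℕ}
    (hN : (N : k) ≠ 0) :
    Nat.card {x : 𝟙_ (Over (Spec (CommRingCat.of k))) ⟶ A // x ^ N = 1} = N ^ (2 * g) := by
  have hN1 : 1 ≤ N := Nat.one_le_iff_ne_zero.2 fun h => hN (by simp [h])
  haveI := etale_pow_of_ne_zero A hN
  haveI := AVMulN.isFinite_pow (A := A) N hN1
  rw [Nat.card_congr (Equiv.subtypeEquivRight fun x => (by rw [MonObj.comp_pow, Category.comp_id] :
    x ^ N = 1 ↔ x ≫ (𝟙 A ^ N : A ⟶ A) = 1)), card_fibre]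
  have h := AVDegLib.finrank_zpow (A := A) hg (N : ℤ) (by exact_mod_cast Nat.one_le_iff_ne_zero.1 hN1)
    ((1 : 𝟙_ (Over (Spec (CommRingCat.of k))) ⟶ A).left (IsLocalRing.closedPoint k))
  simp only [zpow_natCast, Int.natAbs_natCast] at h
  exact h

end Groth.Agent.AVFac
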