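import Groth.Agent.GrpSchLib.SmoothReduced
import Mathlib.AlgebraicGeometry.AlgClosed.Basic
import Mathlib.AlgebraicGeometry.Sites.Fpqc
import Mathlib.AlgebraicGeometry.Morphisms.Etale
import Mathlib.CategoryTheory.Monoidal.Cartesian.Grp
import Mathlib.CategoryTheory.Monoidal.Cartesian.Over

/-!
Morphisms of reduced schemes of finite type over an algebraically closed field are determined by rational
points, and descend along etale isogenies once they kill the rational points of the kernel.
-/

set_option linter.style.haveILetI false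
set_option backward.isDefEq.respectTransparency false
set_option backward.isDefEq.respectTransparency.types false

universe u

open CategoryTheory CategoryTheory.Limits MonoidalCategory CartesianMonoidalCategory MonObj AlgebraicGeometry

namespace Groth.Agent.AVFac

variable {k : Type u} [Field k]

/-- The rational point at a closed point. -/
noncomputable def ptAt [IsAlgClosed k] {X : Over (Spec (CommRingCat.of k))} [LocallyOfFiniteType X.hom]
    (x : X.left) (hx : IsClosed ({x} : Set X.left)) : 𝟙_ (Over (Spec (CommRingCat.of k))) ⟶ X :=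
  Over.homMk (pointOfClosedPoint X.hom x hx) (pointOfClosedPoint_comp X.hom x hx)

theorem ptAt_apply [IsAlgClosed k] {X : Over (Spec (CommRingCat.of k))} [LocallyOfFiniteType X.hom]
    (x : X.left) (hx : IsClosed ({x} : Set X.left)) :
    (ptAt x hx).left (IsLocalRing.closedPoint k) = x := pointOfClosedPoint_apply X.hom x hx _

/-- Two maps out of a reduced scheme of finite type which agree on rational points are equal. -/
theorem ext_pts [IsAlgClosed k] {X Y : Over (Spec (CommRingCat.of k))} [IsReduced X.left]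
    [LocallyOfFiniteType X.hom] [IsSeparated Y.hom] [LocallyOfFiniteType Y.hom] {f g : X ⟶ Y}
    (h : ∀ x : 𝟙_ (Over (Spec (CommRingCat.of k))) ⟶ X, x ≫ f = x ≫ g) : f = g := by
  apply Over.OverMorphism.ext
  haveI : LocallyOfFiniteType (f.left ≫ Y.hom) := by rw [Over.w]; infer_instance
  refine ext_of_apply_eq Y.hom Set.univ isClosed_univ.isLocallyClosed dense_univ (fun x _ hx => ?_)
    ((Over.w f).trans (Over.w g).symm)
  have := congrArg (fun t : 𝟙_ _ ⟶ Y => t.left (IsLocalRing.closedPoint k)) (h (ptAt x hx))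
  simp only [Over.comp_left, Scheme.Hom.comp_base, TopCat.comp_app] at this
  rwa [ptAt_apply] at this

/-- A map killing the rational points of the kernel of an etale isogeny factors through it, uniquely. -/
theorem existsUnique_fac [IsAlgClosed k] {X Y Z : Over (Spec (CommRingCat.of k))} [GrpObj X] [GrpObj Y] [GrpObj Z]
    [Smooth X.hom] [IsSeparated Z.hom] [LocallyOfFiniteType Z.hom]
    (φ : X ⟶ Y) [IsMonHom φ] [Etale φ.left] [Surjective φ.left] [QuasiCompact φ.left]
    (ψ : X ⟶ Z) [IsMonHom ψ]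
    (h : ∀ P : 𝟙_ (Over (Spec (CommRingCat.of k))) ⟶ X, P ≫ φ = η[Y] → P ≫ ψ = η[Z]) :
    ∃! ρ : Y ⟶ Z, φ ≫ ρ = ψ := by
  let T : Over (Spec (CommRingCat.of k)) := Over.mk (pullback.fst φ.left φ.left ≫ X.hom)
  let p₁ : T ⟶ X := Over.homMk (pullback.fst φ.left φ.left) rfl
  let p₂ : T ⟶ X := Over.homMk (pullback.snd φ.left φ.left) (by
    show pullback.snd φ.left φ.left ≫ X.hom = pullback.fst φ.left φ.left ≫ X.hom
    rw [← Over.w φ, ← pullback.condition_assoc])
  have hp : p₁ ≫ φ = p₂ ≫ φ := Over.OverMorphism.ext pullback.condition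
  haveI : Smooth T.hom := inferInstanceAs (Smooth (pullback.fst φ.left φ.left ≫ X.hom))
  haveI : IsReduced T.left := GrpSchLib.isReduced_of_smooth_field T.hom
  have hone : ∀ {G : Over (Spec (CommRingCat.of k))} [GrpObj G],
      η[G] = (1 : 𝟙_ (Over (Spec (CommRingCat.of k))) ⟶ G) := fun {G} _ => by
    rw [Hom.one_def, toUnit_unique (toUnit (𝟙_ _)) (𝟙 _), Category.id_comp]
  have heq : p₁ ≫ ψ = p₂ ≫ ψ := ext_pts fun t => by
    have h1 : (t ≫ p₁ * (t ≫ p₂)⁻¹) ≫ φ = η[Y] := by
      rw [MonObj.mul_comp, GrpObj.inv_comp, Category.assoc, Category.assoc, hp, mul_inv_cancel, hone]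
    have h2 := h _ h1
    rw [MonObj.mul_comp, GrpObj.inv_comp, Category.assoc, Category.assoc, hone, mul_inv_eq_one] at h2
    exact h2
  haveI : Flat φ.left := inferInstance
  haveI : EffectiveEpi φ.left := inferInstance
  have hd : ∀ {W : Scheme.{u}} (g₁ g₂ : W ⟶ X.left), g₁ ≫ φ.left = g₂ ≫ φ.left →
      g₁ ≫ ψ.left = g₂ ≫ ψ.left := fun {W} g₁ g₂ hg => by
    let l := pullback.lift g₁ g₂ hg
    have h1 : l ≫ p₁.left = g₁ := pullback.lift_fst ..
    have h2 : l ≫ p₂.left = g₂ := pullback.lift_snd ..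
    rw [← h1, ← h2, Category.assoc, Category.assoc, ← Over.comp_left, heq, Over.comp_left]
  let d := EffectiveEpi.desc φ.left ψ.left hd
  have hd' : φ.left ≫ d = ψ.left := EffectiveEpi.fac φ.left ψ.left hd
  have hw : d ≫ Z.hom = Y.hom := by
    rw [← cancel_epi φ.left, ← Category.assoc, hd', Over.w, Over.w]
  refine ⟨Over.homMk d hw, Over.OverMorphism.ext hd', fun ρ hρ => Over.OverMorphism.ext ?_⟩
  exact EffectiveEpi.uniq φ.left ψ.left hd ρ.left (congrArg CommaMorphism.left hρ)

/-- A map through which a homomorphism factors along a surjective flat homomorphism is a homomorphism. -/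
theorem isMonHom_of_fac {X Y Z : Over (Spec (CommRingCat.of k))} [GrpObj X] [GrpObj Y] [GrpObj Z]
    (φ : X ⟶ Y) [IsMonHom φ] [Flat φ.left] [Surjective φ.left] [QuasiCompact φ.left]
    (ρ : Y ⟶ Z) [IsMonHom (φ ≫ ρ)] : IsMonHom ρ := by
  constructor
  · have h := IsMonHom.one_hom (φ ≫ ρ)
    rwa [IsMonHom.one_hom_assoc] at h
  · have h := IsMonHom.mul_hom (φ ≫ ρ)
    haveI : Epi (φ ⊗ₘ φ).left := by
      have e : (φ ⊗ₘ φ).left = pullback.map X.hom X.hom Y.hom Y.hom φ.left φ.left (𝟙 _)
          (by rw [Category.comp_id, Over.w]) (by rw [Category.comp_id, Over.w]) := rfl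
      rw [e]
      haveI : Flat (pullback.map X.hom X.hom Y.hom Y.hom φ.left φ.left (𝟙 _) (by simp) (by simp)) :=
        MorphismProperty.pullbackMap (P := @Flat.{u}) ‹_› ‹_› (Over.w φ).symm (Over.w φ).symm
      haveI : Surjective (pullback.map X.hom X.hom Y.hom Y.hom φ.left φ.left (𝟙 _) (by simp) (by simp)) :=
        MorphismProperty.pullbackMap (P := @Surjective.{u}) ‹_› ‹_› (Over.w φ).symm (Over.w φ).symm
      haveI : QuasiCompact (pullback.map X.hom X.hom Y.hom Y.hom φ.left φ.left (𝟙 _) (by simp) (by simp)) :=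
        MorphismProperty.pullbackMap (P := @QuasiCompact.{u}) ‹_› ‹_› (Over.w φ).symm (Over.w φ).symm
      infer_instance
    haveI : Epi (φ ⊗ₘ φ) := Over.epi_of_epi_left _
    rw [← cancel_epi (φ ⊗ₘ φ), ← Category.assoc, ← IsMonHom.mul_hom, Category.assoc, h,
      ← tensorHom_comp_tensorHom, Category.assoc]

end Groth.Agent.AVFac
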