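import Groth.Agent.AVFac.Points
import Mathlib.RingTheory.Etale.Field
import Mathlib.AlgebraicGeometry.Morphisms.FlatRank
import Mathlib.AlgebraicGeometry.Morphisms.QuasiFinite

/-!
Over an algebraically closed field the rational points of a fibre of a finite etale morphism are as many as
its degree.
-/

set_option linter.style.haveILetI false
set_option backward.isDefEq.respectTransparency false
set_option backward.isDefEq.respectTransparency.types false

universe u

open CategoryTheory CategoryTheory.Limits MonoidalCategory CartesianMonoidalCategory MonObj AlgebraicGeometry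

namespace Groth.Agent.AVFac

variable {k : Type u} [Field k] [IsAlgClosed k]

/-- A finite etale scheme over an algebraically closed field has as many rational points as its degree. -/
theorem card_sections {P : Scheme.{u}} (q : P ⟶ Spec (CommRingCat.of k)) [IsFinite q] [Etale q] :
    Nat.card {s : Spec (CommRingCat.of k) ⟶ P // s ≫ q = 𝟙 _} = q.finrank (IsLocalRing.closedPoint k) := by
  haveI : IsAffine P := isAffine_of_isAffineHom q
  let φ : CommRingCat.of k ⟶ Γ(P, ⊤) := Spec.preimage (P.isoSpec.inv ≫ q)
  have hφ : Spec.map φ = P.isoSpec.inv ≫ q := Spec.map_preimage _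
  haveI : Etale (Spec.map φ) := by rw [hφ]; infer_instance
  haveI : IsFinite (Spec.map φ) := by rw [hφ]; infer_instance
  letI : Algebra k Γ(P, ⊤) := φ.hom.toAlgebra
  haveI : Algebra.Etale k Γ(P, ⊤) := (RingHom.etale_algebraMap).1
    (by rw [RingHom.algebraMap_toAlgebra]; exact (HasRingHomProperty.Spec_iff (P := @Etale)).1 inferInstance)
  haveI : Module.Finite k Γ(P, ⊤) := RingHom.finite_algebraMap.1
    (by rw [RingHom.algebraMap_toAlgebra]; exact (IsFinite.SpecMap_iff _).1 inferInstance)
  haveI : IsArtinianRing Γ(P, ⊤) := isArtinian_of_tower k inferInstance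
  haveI : DiscreteTopology P := P.isoSpec.hom.homeomorph.symm.discreteTopology
  have hall : closedPoints P = Set.univ := Set.eq_univ_of_forall fun x => isClosed_discrete _
  rw [Nat.card_congr (pointEquivClosedPoint q), hall, Nat.card_univ]
  have hsq : IsPullback P.isoSpec.hom q (Spec.map φ) (𝟙 _) :=
    IsPullback.of_horiz_isIso ⟨by rw [hφ, Iso.hom_inv_id_assoc, Category.comp_id]⟩
  have h1 : q.finrank (IsLocalRing.closedPoint k) = (Spec.map φ).finrank (IsLocalRing.closedPoint k) :=
    Scheme.Hom.finrank_of_isPullback _ _ _ _ hsq _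
  rw [h1, show φ = CommRingCat.ofHom (algebraMap k Γ(P, ⊤)) from rfl, Scheme.Hom.finrank_SpecMap_algebraMap,
    Module.rankAtStalk_eq_finrank_of_free]
  haveI : Fintype (PrimeSpectrum Γ(P, ⊤)) := Fintype.ofFinite _
  rw [Pi.natCast_apply, Nat.cast_id, (Algebra.FormallyEtale.equivPiOfIsSepClosed k Γ(P, ⊤)).toLinearEquiv.finrank_eq,
    Module.finrank_pi, ← Nat.card_eq_fintype_card]
  exact Nat.card_congr (P.isoSpec.hom.homeomorph.toEquiv)

/-- The rational points over a rational point of a finite etale morphism are as many as its degree. -/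
theorem card_fibre {X Y : Over (Spec (CommRingCat.of k))} [IsSeparated Y.hom] (f : X ⟶ Y) [IsFinite f.left]
    [Etale f.left] (y : 𝟙_ (Over (Spec (CommRingCat.of k))) ⟶ Y) :
    Nat.card {x : 𝟙_ (Over (Spec (CommRingCat.of k))) ⟶ X // x ≫ f = y} =
      f.left.finrank (y.left (IsLocalRing.closedPoint k)) := by
  let q : pullback f.left y.left ⟶ Spec (CommRingCat.of k) := pullback.snd f.left y.left
  haveI : IsFinite q := inferInstanceAs (IsFinite (pullback.snd f.left y.left))
  haveI : Etale q := inferInstanceAs (Etale (pullback.snd f.left y.left))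
  have hy : y.left ≫ Y.hom = 𝟙 _ := Over.w y
  have hX : ∀ s : {s : Spec (CommRingCat.of k) ⟶ pullback f.left y.left // s ≫ q = 𝟙 _},
      (s.1 ≫ pullback.fst f.left y.left) ≫ X.hom = 𝟙 _ := fun s => by
    rw [← Over.w f, Category.assoc, pullback.condition_assoc, hy, Category.comp_id]
    exact s.2
  let e : {x : 𝟙_ (Over (Spec (CommRingCat.of k))) ⟶ X // x ≫ f = y} ≃
      {s : Spec (CommRingCat.of k) ⟶ pullback f.left y.left // s ≫ q = 𝟙 _} :=
    { toFun := fun x => ⟨pullback.lift x.1.left (𝟙 _)
          ((congrArg CommaMorphism.left x.2).trans (Category.id_comp _).symm), pullback.lift_snd _ _ _⟩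
      invFun := fun s => ⟨Over.homMk (s.1 ≫ pullback.fst f.left y.left) (hX s), Over.OverMorphism.ext (by
          show (s.1 ≫ pullback.fst f.left y.left) ≫ f.left = y.left
          rw [Category.assoc, pullback.condition, ← Category.assoc, show s.1 ≫ pullback.snd f.left y.left = 𝟙 _ from s.2,
            Category.id_comp])⟩
      left_inv := fun x => Subtype.ext (Over.OverMorphism.ext (pullback.lift_fst _ _ _))
      right_inv := fun s => Subtype.ext (by
        apply pullback.hom_ext
        · exact pullback.lift_fst _ _ _
        · exact (pullback.lift_snd _ _ _).trans s.2.symm) }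
  rw [Nat.card_congr e, card_sections q,
    Scheme.Hom.finrank_of_isPullback _ _ _ _ (IsPullback.of_hasPullback f.left y.left)]

end Groth.Agent.AVFac
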