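import Groth.Agent.H23.MulTangent
import Groth.Agent.AVDegLib.Tangent

/-!
Unramified homomorphisms of group schemes over an algebraically closed field are those injective on tangent
vectors at the unit; the tangent space at the unit of a one-dimensional smooth group is a line.
-/

noncomputable section

set_option linter.style.haveILetI false
set_option backward.isDefEq.respectTransparency false
set_option backward.isDefEq.respectTransparency.types false
set_option maxHeartbeats 1000000

universe u

open CategoryTheory CategoryTheory.Limits MonoidalCategory CartesianMonoidalCategory MonObj AlgebraicGeometry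
open TrivSqZeroExt

namespace Groth.Agent.AVFac

open Groth.Agent.GrpSchLib Groth.Agent.H23.MulTangent

variable {K : Type u} [Field K]

/-- A tangent vector at the unit. -/
def IsTangent {X : Over (Spec (CommRingCat.of K))} [GrpObj X]
    (t : specOver K (TrivSqZeroExt K K) ⟶ X) : Prop :=
  specHom (TrivSqZeroExt.fstHom K K K) ≫ t = 1

theorem IsTangent.comp {X Y : Over (Spec (CommRingCat.of K))} [GrpObj X] [GrpObj Y]
    {t : specOver K (TrivSqZeroExt K K) ⟶ X} (ht : IsTangent t) (f : X ⟶ Y) [IsMonHom f] :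
    IsTangent (t ≫ f) := by
  rw [IsTangent, ← Category.assoc, ht, MonObj.one_comp]

/-- An unramified homomorphism is injective on tangent vectors. -/
theorem eq_one_of_formallyUnramified {X Y : Over (Spec (CommRingCat.of K))} [GrpObj X] [GrpObj Y]
    (f : X ⟶ Y) [IsMonHom f] [LocallyOfFiniteType f.left] [FormallyUnramified f.left]
    (t : specOver K (TrivSqZeroExt K K) ⟶ X) (ht : IsTangent t) (htf : t ≫ f = 1) : t = 1 := by
  haveI := subsingleton_spec (K := K) K
  have hw : t.left ≫ f.left = (1 : specOver K (TrivSqZeroExt K K) ⟶ X).left ≫ f.left := by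
    rw [← Over.comp_left, ← Over.comp_left, htf, MonObj.one_comp]
  let l := pullback.lift t.left _ hw
  let i := (specHom (TrivSqZeroExt.fstHom K K K)).left
  have hl : i ≫ l = (specHom (TrivSqZeroExt.fstHom K K K) ≫ (1 : specOver K (TrivSqZeroExt K K) ⟶ X)).left ≫
      pullback.diagonal f.left := by
    apply pullback.hom_ext
    · rw [Category.assoc, pullback.lift_fst, Category.assoc, pullback.diagonal_fst, Category.comp_id,
        ← Over.comp_left, ht, MonObj.comp_one]
    · rw [Category.assoc, pullback.lift_snd, Category.assoc, pullback.diagonal_snd, Category.comp_id,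
        ← Over.comp_left]
  have hr : Set.range l ⊆ Set.range (pullback.diagonal f.left) := by
    rintro _ ⟨q, rfl⟩
    let p₀ : Spec (CommRingCat.of K) := IsLocalRing.closedPoint K
    rw [show q = i p₀ from @Subsingleton.elim (PrimeSpectrum (TrivSqZeroExt K K)) inferInstance _ _,
      ← Scheme.Hom.comp_apply, hl, Scheme.Hom.comp_apply]
    exact ⟨_, rfl⟩
  obtain ⟨m, hm⟩ : ∃ m, m ≫ pullback.diagonal f.left = l :=
    ⟨IsOpenImmersion.lift _ l hr, IsOpenImmersion.lift_fac _ _ _⟩
  have h1 : m = t.left := by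
    rw [← Category.comp_id m, ← pullback.diagonal_fst f.left, ← Category.assoc, hm, pullback.lift_fst]
  have h2 : m = (1 : specOver K (TrivSqZeroExt K K) ⟶ X).left := by
    rw [← Category.comp_id m, ← pullback.diagonal_snd f.left, ← Category.assoc, hm, pullback.lift_snd]
  exact Over.OverMorphism.ext (h1.symm.trans h2)

/-- A homomorphism injective on tangent vectors at the unit is unramified. -/
theorem formallyUnramified_of_tangent [IsAlgClosed K] {X Y : Over (Spec (CommRingCat.of K))} [GrpObj X] [GrpObj Y]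
    [LocallyOfFiniteType X.hom] (φ : X ⟶ Y) [IsMonHom φ]
    (hinj : ∀ t : specOver K (TrivSqZeroExt K K) ⟶ X, IsTangent t → t ≫ φ = 1 → t = 1) :
    FormallyUnramified φ.left := by
  set f := φ.left
  have hw : f ≫ Y.hom = X.hom := Over.w φ
  rw [HasRingHomProperty.iff_appLE (P := @FormallyUnramified)]
  intro V' V e
  obtain ⟨φA, hφA⟩ := Spec.map_surjective (V'.2.fromSpec ≫ Y.hom)
  obtain ⟨φB, hφB⟩ := Spec.map_surjective (V.2.fromSpec ≫ X.hom)
  let A := Γ(Y.left, V'.1)
  let B := Γ(X.left, V.1)
  let : Algebra K A := φA.hom.toAlgebra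
  let : Algebra K B := φB.hom.toAlgebra
  let : Algebra A B := (f.appLE V'.1 V.1 e).hom.toAlgebra
  have hcomp : φA ≫ f.appLE V'.1 V.1 e = φB := by
    apply Spec.map_injective
    rw [Spec.map_comp, hφA, hφB, IsAffineOpen.SpecMap_appLE_fromSpec_assoc f V'.2 V.2 e, hw]
  have : IsScalarTower K A B := IsScalarTower.of_algebraMap_eq fun c =>
    (congrArg (fun q => q.hom c) hcomp).symm
  have hft : Algebra.FiniteType K B := by
    have h : LocallyOfFiniteType (V.2.fromSpec ≫ X.hom) := inferInstance
    rw [← hφB, HasRingHomProperty.Spec_iff (P := @LocallyOfFiniteType)] at h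
    exact h
  have : Algebra.FiniteType A B := Algebra.FiniteType.of_restrictScalars_finiteType K A B
  show Algebra.FormallyUnramified A B
  have : IsJacobsonRing B := isJacobsonRing_of_finiteType (A := K)
  refine ⟨(Submodule.subsingleton_iff B).1 (subsingleton_iff_bot_eq_top.1 ?_)⟩
  by_contra hne
  obtain ⟨m, hm, hsupp⟩ : ∃ m : Ideal B, m.IsMaximal ∧
      (⊥ : Submodule B Ω[B⁄A]).colon ((⊤ : Submodule B Ω[B⁄A]) : Set _) ≤ m :=
    Ideal.exists_le_maximal _ fun htop => hne (by
      refine (eq_bot_iff.2 fun x _ => ?_).symm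
      have := (Submodule.mem_colon).1 ((Ideal.eq_top_iff_one _).1 htop) x trivial
      simpa using this)
  have hlt : m • (⊤ : Submodule B Ω[B⁄A]) < ⊤ := by
    refine lt_of_le_of_ne le_top fun h => ?_
    obtain ⟨r, hr1, hr⟩ := Submodule.exists_sub_one_mem_and_smul_eq_zero_of_fg_of_le_smul m
      (⊤ : Submodule B Ω[B⁄A]) Module.Finite.fg_top h.ge
    have hrm : r ∈ m := hsupp (Submodule.mem_colon.2 fun x _ => by simpa using hr x trivial)
    exact hm.ne_top ((Ideal.eq_top_iff_one m).2 (by simpa using m.sub_mem hrm hr1))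
  have : Module.Finite K (B ⧸ m) := by
    let := Ideal.Quotient.field m
    exact finite_of_finite_type_of_isJacobsonRing K (B ⧸ m)
  let := Ideal.Quotient.field m
  have hbij : Function.Bijective (algebraMap K (B ⧸ m)) :=
    ⟨(algebraMap K (B ⧸ m)).injective,
      (IsAlgClosed.algebraMap_bijective_of_isIntegral (k := K) (K := B ⧸ m)).2⟩
  let eK : K ≃ₐ[K] B ⧸ m := AlgEquiv.ofBijective (Algebra.ofId K (B ⧸ m)) hbij
  let χ : B →ₐ[K] K := eK.symm.toAlgHom.comp (Ideal.Quotient.mkₐ K m)
  obtain ⟨x, -, hx⟩ := SetLike.exists_of_lt hlt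
  let Q := Ω[B⁄A] ⧸ (m • (⊤ : Submodule B Ω[B⁄A]))
  obtain ⟨ℓ, hℓ⟩ := Module.Projective.exists_dual_ne_zero K
    (show (Submodule.Quotient.mk x : Q) ≠ 0 by rwa [Ne, Submodule.Quotient.mk_eq_zero])
  let D : B →ₗ[K] K := ℓ ∘ₗ (((m • (⊤ : Submodule B Ω[B⁄A])).mkQ.restrictScalars K) ∘ₗ
    ((KaehlerDifferential.D A B).toLinearMap.restrictScalars K))
  have hsmul : ∀ (b : B) (q : Q), b • q = χ b • q := by
    intro b q
    obtain ⟨y, rfl⟩ := Submodule.Quotient.mk_surjective _ q
    rw [← algebraMap_smul B (χ b) (Submodule.Quotient.mk y : Q), ← Submodule.Quotient.mk_smul,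
      ← Submodule.Quotient.mk_smul, Submodule.Quotient.eq, ← sub_smul]
    refine Submodule.smul_mem_smul ?_ trivial
    rw [← Ideal.Quotient.eq]
    show Ideal.Quotient.mk m b = algebraMap K (B ⧸ m) (χ b)
    exact (eK.apply_symm_apply _).symm
  have hD : ∀ a b, D (a * b) = χ a * D b + χ b * D a := by
    intro a b
    show ℓ (Submodule.Quotient.mk (KaehlerDifferential.D A B (a * b))) = _
    rw [Derivation.leibniz, Submodule.Quotient.mk_add, Submodule.Quotient.mk_smul,
      Submodule.Quotient.mk_smul, hsmul, hsmul, map_add, map_smul, map_smul]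
    rfl
  have hDne : D ≠ 0 := by
    intro h
    apply hℓ
    have : ∀ y ∈ Submodule.span B (Set.range (KaehlerDifferential.D A B)),
        ℓ (Submodule.Quotient.mk y) = 0 := by
      intro y hy
      induction hy using Submodule.span_induction with
      | mem y hy => obtain ⟨b, rfl⟩ := hy; exact LinearMap.congr_fun h b
      | zero => simp
      | add y z _ _ h1 h2 => rw [Submodule.Quotient.mk_add, map_add, h1, h2, add_zero]
      | smul b y _ h1 => rw [Submodule.Quotient.mk_smul, hsmul, map_smul, h1, smul_zero]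
    exact this x (KaehlerDifferential.span_range_derivation A B ▸ trivial)
  obtain ⟨g, hg⟩ := exists_algHom_of_derivation χ D hD
  let cst : B →ₐ[K] TrivSqZeroExt K K := (TrivSqZeroExt.inlAlgHom K K K).comp χ
  let t := pt (X := X) V.2.fromSpec hφB.symm g
  let a := pt (X := X) V.2.fromSpec hφB.symm cst
  have hgA : ∀ c : A, g (algebraMap A B c) = cst (algebraMap A B c) := by
    intro c
    rw [hg]
    have : D (algebraMap A B c) = 0 := by simp [D]
    simp [this, cst]
  have hfn : ∀ (h : B →ₐ[K] TrivSqZeroExt K K),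
      (pt (X := X) V.2.fromSpec hφB.symm h ≫ φ).left =
        Spec.map (f.appLE V'.1 V.1 e ≫ CommRingCat.ofHom h.toRingHom) ≫ V'.2.fromSpec := by
    intro h
    rw [Spec.map_comp, Category.assoc, IsAffineOpen.SpecMap_appLE_fromSpec f V'.2 V.2 e]
    show (_ ≫ V.2.fromSpec) ≫ f = _
    exact Category.assoc _ _ _
  have htn : t ≫ φ = a ≫ φ := by
    ext1
    rw [hfn, hfn]
    congr 2
    ext1
    exact RingHom.ext hgA
  have hfst : IsTangent (t * a⁻¹) := by
    rw [IsTangent, MonObj.comp_mul, GrpObj.comp_inv, pt_comp, pt_comp, mul_inv_eq_one]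
    congr 1
    ext b
    show (g b).fst = (cst b).fst
    rw [show g b = _ from hg b]
    simp [cst]
  have h1 := hinj (t * a⁻¹) hfst (by rw [MonObj.mul_comp, GrpObj.inv_comp, htn, mul_inv_cancel])
  rw [mul_inv_eq_one] at h1
  have := pt_injective V.2.fromSpec hφB.symm h1
  apply hDne
  ext b
  have := congrArg TrivSqZeroExt.snd (AlgHom.congr_fun this b)
  simpa [hg, cst] using this

/-- The tangent vectors at the unit of a one-dimensional abelian variety form a line. -/
theorem tangent_line {X : Over (Spec (CommRingCat.of K))} [GrpObj X] [IsProper X.hom] [GeometricallyIntegral X.hom]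
    (hX : topologicalKrullDim X.left = 1) {t₀ : specOver K (TrivSqZeroExt K K) ⟶ X} (ht₀ : IsTangent t₀)
    (hne : t₀ ≠ 1) {t : specOver K (TrivSqZeroExt K K) ⟶ X} (ht : IsTangent t) :
    ∃ c : K, t = specHom (TrivSqZeroExt.map (c • LinearMap.id)) ≫ t₀ := by
  haveI : IsIntegral X.left := GeometricallyIntegral.isIntegral_of_subsingleton X.hom
  haveI : Smooth X.hom := S7795.result X
  obtain ⟨W, hW, V, hV, hηV, e, hstd⟩ := Smooth.exists_isStandardSmooth X.hom (η[X].left (IsLocalRing.closedPoint K))
  haveI : Subsingleton (Spec (CommRingCat.of K)) := inferInstanceAs (Subsingleton (PrimeSpectrum K))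
  obtain rfl : W = ⊤ := top_le_iff.1 fun x _ =>
    Subsingleton.elim (X.hom (η[X].left (IsLocalRing.closedPoint K))) x ▸ e hηV
  let φ : K →+* Γ(X.left, V) := (X.hom.appLE ⊤ V e).hom.comp (Scheme.ΓSpecIso (CommRingCat.of K)).inv.hom
  have hφ : φ.IsStandardSmooth := RingHom.isStandardSmooth_respectsIso.2 _
    (Scheme.ΓSpecIso (CommRingCat.of K)).symm.commRingCatIsoToRingEquiv hstd
  letI : Algebra K Γ(X.left, V) := φ.toAlgebra
  haveI : Algebra.IsStandardSmooth K Γ(X.left, V) := hφ
  have hη : genericPoint X.left ∈ V := (genericPoint_specializes _).mem_open V.2 hηV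
  haveI : Nonempty V := ⟨⟨_, hηV⟩⟩
  obtain ⟨I, J, _, _, ⟨P⟩⟩ := ‹Algebra.IsStandardSmooth K Γ(X.left, V)›.out
  haveI : Algebra.IsStandardSmoothOfRelativeDimension P.dimension K Γ(X.left, V) :=
    ⟨I, J, inferInstance, inferInstance, P, rfl⟩
  have hd : P.dimension = 1 := by
    have h1 := SmoothDim.ringKrullDim_eq K Γ(X.left, V) P.dimension
    have h2 := AVDegLib.dim_sect hV hη (g := 1) (by exact_mod_cast hX)
    rw [← ringKrullDim_eq_of_ringEquiv (RingEquiv.ofBijective
      ((AVDegLib.gm V hη).codRestrict (AVDegLib.sect X V) fun a => AVDegLib.gm_mem_sect hη a)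
      ⟨fun a b h => AVDegLib.gm_injective V hη (congrArg Subtype.val h), fun ⟨f, hf⟩ => by
        obtain ⟨a, ha⟩ := hf hη; exact ⟨a, Subtype.ext ha⟩⟩), h1] at h2
    exact_mod_cast h2
  have hfin : Module.finrank Γ(X.left, V) Ω[Γ(X.left, V)⁄K] = 1 := by
    rw [Module.finrank,
      Algebra.IsStandardSmoothOfRelativeDimension.rank_kaehlerDifferential (S := Γ(X.left, V)) P.dimension, hd]
    simp
  let B := Γ(X.left, V)
  haveI : Module.Free B Ω[B⁄K] := inferInstance
  haveI : Module.Finite B Ω[B⁄K] := inferInstance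
  let bΩ := Module.finBasisOfFinrankEq B Ω[B⁄K] hfin
  have hj : hV.fromSpec ≫ X.hom = Spec.map (CommRingCat.ofHom (algebraMap K B)) := by
    rw [← IsAffineOpen.SpecMap_appLE_fromSpec X.hom (isAffineOpen_top _) hV e]
    rw [show CommRingCat.ofHom (algebraMap K B) =
      (Scheme.ΓSpecIso (CommRingCat.of K)).inv ≫ X.hom.appLE ⊤ V e from rfl, Spec.map_comp,
      IsAffineOpen.fromSpec_top, Scheme.isoSpec_Spec_inv]
  obtain ⟨χ, hχ⟩ := exists_pt_of_range (X := X) hV.fromSpec hj (1 : specOver K K ⟶ X) (by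
    rintro _ ⟨q, rfl⟩
    rw [hV.range_fromSpec]
    show η[X].left ((toUnit (specOver K K)).left q) ∈ V
    rw [show (toUnit (specOver K K)).left q = IsLocalRing.closedPoint K from Subsingleton.elim (α := PrimeSpectrum K) _ _]
    exact hηV)
  let cst : B →ₐ[K] TrivSqZeroExt K K := (TrivSqZeroExt.inlAlgHom K K K).comp χ
  have hcst : pt hV.fromSpec hj cst = 1 := by rw [← pt_comp, hχ, MonObj.comp_one]
  -- every tangent vector is a multiple of the derivation given by the basis
  have hline : ∀ g : B →ₐ[K] TrivSqZeroExt K K, (TrivSqZeroExt.fstHom K K K).comp g = χ →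
      ∃ s : K, ∀ b, (g b).snd = χ (bΩ.repr (KaehlerDifferential.D K B b) 0) * s := by
    intro g hg
    have hfst : ∀ b, (g b).fst = χ b := fun b => AlgHom.congr_fun hg b
    letI : Module B K := Module.compHom K χ.toRingHom
    haveI : IsScalarTower K B K := ⟨fun r b y => by
      show χ (r • b) * y = r * (χ b * y)
      rw [map_smul, smul_eq_mul, _root_.mul_assoc]⟩
    let D : Derivation K B K :=
      { toFun := fun b => (g b).snd
        map_add' := fun a b => by simp
        map_smul' := fun r a => by simp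
        map_one_eq_zero' := by simp
        leibniz' := fun a b => by
          show (g (a * b)).snd = χ a * (g b).snd + χ b * (g a).snd
          rw [map_mul, TrivSqZeroExt.snd_mul, hfst, hfst]
          simp [mul_comm] }
    refine ⟨D.liftKaehlerDifferential (bΩ 0), fun b => ?_⟩
    show D b = _
    rw [← Derivation.liftKaehlerDifferential_comp_D D]
    conv_lhs => rw [← bΩ.sum_repr (KaehlerDifferential.D K B b)]
    rw [Fin.sum_univ_one, map_smul]
    rfl
  obtain ⟨g₀, hg₀, rfl⟩ := exists_pt (X := X) hV.fromSpec hj K t₀ (ht₀.trans hχ.symm)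
  obtain ⟨g, hg, rfl⟩ := exists_pt (X := X) hV.fromSpec hj K t (ht.trans hχ.symm)
  obtain ⟨s₀, hs₀⟩ := hline g₀ hg₀
  obtain ⟨s, hs⟩ := hline g hg
  have hs0 : s₀ ≠ 0 := fun h => hne (by
    rw [← hcst]
    congr 1
    refine AlgHom.ext fun b => TrivSqZeroExt.ext ?_ ?_
    · simpa [cst] using AlgHom.congr_fun hg₀ b
    · rw [hs₀, h, MulZeroClass.mul_zero]; simp [cst])
  refine ⟨s / s₀, ?_⟩
  rw [pt_comp]
  congr 1
  refine AlgHom.ext fun b => TrivSqZeroExt.ext ?_ ?_
  · have e1 := AlgHom.congr_fun hg b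
    have e2 := AlgHom.congr_fun hg₀ b
    simp only [AlgHom.comp_apply, TrivSqZeroExt.fstHom_apply] at e1 e2 ⊢
    rw [e1]
    simp [e2]
  · simp only [AlgHom.comp_apply, TrivSqZeroExt.snd_map, LinearMap.smul_apply, LinearMap.id_apply,
      smul_eq_mul]
    rw [hs, hs₀]
    field_simp

end Groth.Agent.AVFac
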